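import Groth.Agent.Desc19b.Imm

/-!
# Scheme-theoretic image of a product of quasi-compact morphisms
-/

set_option autoImplicit false
set_option backward.isDefEq.respectTransparency.types false
set_option linter.style.haveILetI false

universe u

open CategoryTheory CategoryTheory.Limits AlgebraicGeometry

namespace Groth.Agent.FlatMorKerProd

theorem map_comap_of_isClosedImmersion {T P : Scheme.{u}} (ι : T ⟶ P) [IsClosedImmersion ι] (J : P.IdealSheafData) :
    (J.comap ι).map ι = ι.ker ⊔ J := by
  refine le_antisymm ?_ (sup_le ?_ (J.le_map_comap ι))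
  · let K : P.IdealSheafData := ι.ker ⊔ J
    obtain ⟨l₁, hl₁⟩ : ∃ l : K.subscheme ⟶ T, l ≫ ι = K.subschemeι :=
      ⟨IsClosedImmersion.lift ι K.subschemeι (by rw [K.ker_subschemeι]; exact le_sup_left), IsClosedImmersion.lift_fac _ _ _⟩
    obtain ⟨l₂, hl₂⟩ : ∃ l : K.subscheme ⟶ J.subscheme, l ≫ J.subschemeι = K.subschemeι :=
      ⟨Scheme.IdealSheafData.inclusion le_sup_right, Scheme.IdealSheafData.inclusion_subschemeι _⟩
    rw [Scheme.IdealSheafData.comap, Scheme.IdealSheafData.map_ker]
    refine ((pullback.lift l₁ l₂ (hl₁.trans hl₂.symm)).le_ker_comp (pullback.fst ι J.subschemeι ≫ ι)).trans (le_of_eq ?_)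
    rw [pullback.lift_fst_assoc, hl₁, K.ker_subschemeι]
  · rw [← Scheme.IdealSheafData.map_bot ι]
    exact Scheme.IdealSheafData.map_mono ι bot_le

theorem ker_of_isPullback {P A Q X : Scheme.{u}} {q : P ⟶ A} {a : P ⟶ Q} {f : A ⟶ X} {g : Q ⟶ X}
    (h : IsPullback q a f g) [QuasiCompact f] [Flat g] : a.ker = f.ker.comap g := by
  rw [← Desc19b.ker_pullback_snd_of_flat f g, ← h.isoPullback_hom_snd, Scheme.Hom.ker_comp_of_isIso]

/-- Over a base on which everything is flat, `ker (f × g) = ker f ⊔ ker g`. -/
theorem ker_prod {S X Y A B : Scheme.{u}} (hS : ∀ {Z : Scheme.{u}} (z : Z ⟶ S), Flat z)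
    (x : X ⟶ S) (y : Y ⟶ S) (f : A ⟶ X) [QuasiCompact f] (g : B ⟶ Y) [QuasiCompact g]
    (a' : A ⟶ S) (b' : B ⟶ S) (ha : f ≫ x = a') (hb : g ≫ y = b') (F : pullback a' b' ⟶ pullback x y)
    (h₁ : F ≫ pullback.fst x y = pullback.fst a' b' ≫ f) (h₂ : F ≫ pullback.snd x y = pullback.snd a' b' ≫ g) :
    F.ker = f.ker.comap (pullback.fst x y) ⊔ g.ker.comap (pullback.snd x y) := by
  haveI := hS x
  haveI := hS y
  haveI := hS b'
  let a : pullback a' b' ⟶ pullback x b' := pullback.lift (pullback.fst a' b' ≫ f) (pullback.snd a' b')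
    (by rw [Category.assoc, ha]; exact pullback.condition)
  let b : pullback x b' ⟶ pullback x y := pullback.lift (pullback.fst x b') (pullback.snd x b' ≫ g)
    (by rw [Category.assoc, hb]; exact pullback.condition)
  have hF : F = a ≫ b := by
    apply pullback.hom_ext
    · rw [h₁, Category.assoc, pullback.lift_fst, pullback.lift_fst]
    · rw [h₂, Category.assoc, pullback.lift_snd, pullback.lift_snd_assoc]
  have sa : IsPullback (pullback.fst a' b') a f (pullback.fst x b') := by
    have e1 : a ≫ pullback.snd x b' = pullback.snd a' b' := pullback.lift_snd _ _ _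
    have e2 : a ≫ pullback.fst x b' = pullback.fst a' b' ≫ f := pullback.lift_fst _ _ _
    exact (IsPullback.of_right (h₁₂ := pullback.snd x b') (v₁₃ := b') (h₂₂ := x)
      (by rw [e1, ha]; exact (IsPullback.of_hasPullback a' b').flip) e2
      (IsPullback.of_hasPullback x b').flip).flip
  have sb : IsPullback b (pullback.snd x b') (pullback.snd x y) g := by
    have e1 : b ≫ pullback.fst x y = pullback.fst x b' := pullback.lift_fst _ _ _
    have e2 : b ≫ pullback.snd x y = pullback.snd x b' ≫ g := pullback.lift_snd _ _ _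
    exact IsPullback.of_right (h₁₂ := pullback.fst x y) (v₁₃ := x) (h₂₂ := y)
      (by rw [e1, hb]; exact IsPullback.of_hasPullback x b') e2 (IsPullback.of_hasPullback x y)
  let ι := pullback.fst (pullback.fst x y) f.imageι
  have hι : ι.ker = f.ker.comap (pullback.fst x y) := by
    rw [Scheme.IdealSheafData.ker_fst_of_isClosedImmersion, Scheme.Hom.imageι, Scheme.IdealSheafData.ker_subschemeι]
  let h := ι ≫ pullback.snd x y
  haveI : Flat h := by
    have sh : IsPullback h (pullback.snd (pullback.fst x y) f.imageι) y (f.imageι ≫ x) :=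
      (IsPullback.of_hasPullback (pullback.fst x y) f.imageι).paste_horiz (IsPullback.of_hasPullback x y).flip
    exact MorphismProperty.of_isPullback sh.flip (hS (f.imageι ≫ x))
  have sc : IsPullback (pullback.fst b ι ≫ pullback.snd x b') (pullback.snd b ι) g h :=
    ((IsPullback.of_hasPullback b ι).flip.paste_vert sb.flip.flip).flip
  rw [hF, Scheme.Hom.ker_comp, ker_of_isPullback sa,
    show pullback.fst x b' = b ≫ pullback.fst x y from (pullback.lift_fst _ _ _).symm,
    Scheme.IdealSheafData.comap_comp, ← hι, ← Scheme.IdealSheafData.ker_fst_of_isClosedImmersion,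
    Scheme.IdealSheafData.map_ker, pullback.condition, Scheme.Hom.ker_comp, ker_of_isPullback sc,
    Scheme.IdealSheafData.comap_comp, map_comap_of_isClosedImmersion]

end Groth.Agent.FlatMorKerProd
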